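import Mathlib

/-!
# A map of vector bundles bijective in codimension one is bijective
-/

set_option autoImplicit false
set_option linter.style.haveILetI false
universe u
open TensorProduct

namespace Groth.Agent.H28Purity

theorem baseChange_baseChange_bijective_iff {T L K : Type u} [CommRing T] [CommRing L] [CommRing K]
    [Algebra T L] [Algebra T K] [Algebra L K] [IsScalarTower T L K] {M N : Type u} [AddCommGroup M] [Module T M]
    [AddCommGroup N] [Module T N] (φ : M →ₗ[T] N) :
    Function.Bijective ((φ.baseChange L).baseChange K) ↔ Function.Bijective (φ.baseChange K) := by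
  let eM := AlgebraTensorModule.cancelBaseChange T L K K M
  let eN := AlgebraTensorModule.cancelBaseChange T L K K N
  have h : φ.baseChange K ∘ₗ eM.toLinearMap = eN.toLinearMap ∘ₗ (φ.baseChange L).baseChange K := by
    ext m; simp [eM, eN]
  have h' : (φ.baseChange K : _ → _) ∘ eM = eN ∘ (φ.baseChange L).baseChange K :=
    funext fun x => LinearMap.congr_fun h x
  rw [← Function.Bijective.of_comp_iff' eN.bijective, ← h', Function.Bijective.of_comp_iff _ eM.bijective]

theorem baseChange_bijective_of_bijective {L K : Type u} [CommRing L] [CommRing K] [Algebra L K] {M N : Type u}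
    [AddCommGroup M] [Module L M] [AddCommGroup N] [Module L N] {φ : M →ₗ[L] N} (h : Function.Bijective φ) :
    Function.Bijective (φ.baseChange K) := by
  have : φ.baseChange K = ((LinearEquiv.ofBijective φ h).baseChange L K M N).toLinearMap := rfl
  rw [this]
  exact ((LinearEquiv.ofBijective φ h).baseChange L K M N).bijective

theorem bijective_of_local {L : Type u} [CommRing L] [IsNoetherianRing L] [IsLocalRing L] {M N : Type u}
    [AddCommGroup M] [Module L M] [AddCommGroup N] [Module L N] [Module.Free L M] [Module.Free L N]
    [Module.Finite L M] [Module.Finite L N] (φ : M →ₗ[L] N)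
    (H : ∀ (Q : Ideal L) [Q.IsPrime], Q.height ≤ 1 → Function.Bijective (φ.baseChange Q.ResidueField)) :
    Function.Bijective φ := by
  obtain ⟨Q₀, hQ₀, -⟩ := Ideal.exists_minimalPrimes_le (J := IsLocalRing.maximalIdeal L) (I := (⊥ : Ideal L)) bot_le
  haveI : Q₀.IsPrime := hQ₀.1.1
  have hrank : Module.finrank L M = Module.finrank L N := by
    have h0 : Q₀.height = 0 := Ideal.height_eq_zero_iff.2 hQ₀
    have := (LinearEquiv.ofBijective _ (H Q₀ (h0.le.trans zero_le_one))).finrank_eq
    rwa [Module.finrank_baseChange, Module.finrank_baseChange] at this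
  let e : N ≃ₗ[L] M := LinearEquiv.ofFinrankEq N M hrank.symm
  let f : M →ₗ[L] M := e.toLinearMap ∘ₗ φ
  suffices hf : IsUnit f.det by
    have hf' : Function.Bijective f := (Module.End.isUnit_iff f).1 ((LinearMap.isUnit_iff_isUnit_det f).2 hf)
    exact (Function.Bijective.of_comp_iff' e.bijective φ).1 hf'
  by_contra hd
  obtain ⟨Q, hQ, hQle⟩ := Ideal.exists_minimalPrimes_le (J := IsLocalRing.maximalIdeal L) (I := Ideal.span {f.det})
    ((Ideal.span_singleton_le_iff_mem _).2 ((IsLocalRing.mem_maximalIdeal _).2 hd))
  haveI : Q.IsPrime := hQ.1.1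
  haveI : (Ideal.span {f.det}).IsPrincipal := ⟨⟨f.det, rfl⟩⟩
  have h1 := H Q (Ideal.height_le_one_of_isPrincipal_of_mem_minimalPrimes _ Q hQ)
  have h2 : Function.Bijective (f.baseChange Q.ResidueField) := by
    rw [LinearMap.baseChange_comp]
    exact (baseChange_bijective_of_bijective (φ := e.toLinearMap) e.bijective).comp h1
  have h3 : IsUnit (algebraMap L Q.ResidueField f.det) := by
    rw [← LinearMap.det_baseChange, ← LinearMap.isUnit_iff_isUnit_det]
    exact (Module.End.isUnit_iff _).2 h2
  refine h3.ne_zero ?_
  rw [Ideal.algebraMap_residueField_eq_zero]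
  exact hQ.1.2 (Ideal.mem_span_singleton_self _)

theorem height_under_le {R T : Type u} [CommRing R] [CommRing T] [Algebra R T] [Algebra.HasGoingDown R T]
    (Q : Ideal T) [Q.IsPrime] : (Q.under R).height ≤ Q.height := by
  rw [show Q = (⟨Q, inferInstance⟩ : PrimeSpectrum T).asIdeal from rfl,
    show (⟨Q, inferInstance⟩ : PrimeSpectrum T).asIdeal.under R = (⟨Q.under R, inferInstance⟩ : PrimeSpectrum R).asIdeal from rfl,
    PrimeSpectrum.height_eq_orderHeight, PrimeSpectrum.height_eq_orderHeight]
  refine Order.height_le fun l hl => ?_
  haveI : Q.LiesOver l.last.asIdeal := ⟨by rw [hl]⟩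
  obtain ⟨L, hlen, hlast, -⟩ := Ideal.exists_ltSeries_of_hasGoingDown l Q
  rw [← hlen]
  exact Order.length_le_height hlast.le

/-- A map of finite projective modules over a flat algebra which is bijective near every point over a point of
codimension at most one of the base is bijective. -/
theorem bijective_of_codim_one {R T : Type u} [CommRing R] [CommRing T] [Algebra R T] [IsNoetherianRing T]
    [Algebra.HasGoingDown R T] {M N : Type u} [AddCommGroup M] [Module T M] [AddCommGroup N] [Module T N]
    [Module.Projective T M] [Module.Projective T N] [Module.Finite T M] [Module.Finite T N] (φ : M →ₗ[T] N)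
    (H : ∀ (Q : Ideal T) [Q.IsPrime], (Q.under R).height ≤ 1 →
      ∃ t ∉ Q, Function.Bijective (φ.baseChange (Localization.Away t))) : Function.Bijective φ := by
  refine bijective_of_isLocalized_maximal
    (fun P _ => Localization.AtPrime P ⊗[T] M) (fun P _ => TensorProduct.mk T (Localization.AtPrime P) M 1)
    (fun P _ => Localization.AtPrime P ⊗[T] N) (fun P _ => TensorProduct.mk T (Localization.AtPrime P) N 1)
    φ fun P _ => ?_
  let L := Localization.AtPrime P
  have heq : IsLocalizedModule.map P.primeCompl (TensorProduct.mk T L M 1) (TensorProduct.mk T L N 1) φ =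
      (φ.baseChange L).restrictScalars T := by
    refine IsLocalizedModule.linearMap_ext P.primeCompl (TensorProduct.mk T L M 1) (TensorProduct.mk T L N 1) ?_
    ext m
    exact (IsLocalizedModule.map_apply P.primeCompl (TensorProduct.mk T L M 1) (TensorProduct.mk T L N 1) φ m).trans
      (LinearMap.baseChange_tmul φ 1 m).symm
  rw [heq]
  haveI : IsNoetherianRing L := IsLocalization.isNoetherianRing P.primeCompl L inferInstance
  haveI : Module.Free L (L ⊗[T] M) := Module.free_of_flat_of_isLocalRing
  haveI : Module.Free L (L ⊗[T] N) := Module.free_of_flat_of_isLocalRing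
  refine bijective_of_local (φ.baseChange L) fun Q _ hQ => ?_
  obtain ⟨t, ht, hbij⟩ := H (Q.under T) (by
    refine (height_under_le _).trans ?_
    rwa [IsLocalization.height_under P.primeCompl Q])
  rw [baseChange_baseChange_bijective_iff]
  have hu : IsUnit (algebraMap T Q.ResidueField t) := by
    rw [isUnit_iff_ne_zero, IsScalarTower.algebraMap_apply T L Q.ResidueField, Ne,
      Ideal.algebraMap_residueField_eq_zero]
    exact ht
  letI : Algebra (Localization.Away t) Q.ResidueField :=
    (IsLocalization.Away.lift (S := Localization.Away t) t hu).toAlgebra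
  haveI : IsScalarTower T (Localization.Away t) Q.ResidueField :=
    IsScalarTower.of_algebraMap_eq fun x => (IsLocalization.Away.lift_eq t hu x).symm
  rw [← baseChange_baseChange_bijective_iff (L := Localization.Away t)]
  exact baseChange_bijective_of_bijective hbij

end Groth.Agent.H28Purity
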