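import Groth.Agent.H28Purity.CodimOne
import Groth.Agent.H06Unram.Tower

/-!
# Purity for maps between smooth algebras
-/

set_option autoImplicit false
set_option linter.style.haveILetI false
universe u
open TensorProduct KaehlerDifferential

namespace Groth.Agent.H28Purity

variable {R A T : Type u} [CommRing R] [CommRing A] [CommRing T] [Algebra R A] [Algebra R T] [Algebra A T]
  [IsScalarTower R A T]

theorem baseChange_mapBaseChange_bijective [Algebra.Smooth R T] (t : T)
    (h : Algebra.FormallyEtale A (Localization.Away t)) :
    Function.Bijective ((mapBaseChange R A T).baseChange (Localization.Away t)) := by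
  let L := Localization.Away t
  haveI : Algebra.FormallyEtale T L := Algebra.FormallyEtale.of_isLocalization (Submonoid.powers t)
  haveI : Algebra.FormallySmooth R L := Algebra.FormallySmooth.comp R T L
  have hψ := (H06Unram.Tower.formallyEtale_iff R A L).1 h
  have hχ := (H06Unram.Tower.formallyEtale_iff R T L).1 inferInstance
  let e := AlgebraTensorModule.cancelBaseChange A T L L Ω[A⁄R]
  have hmap : ((map R R T L).restrictScalars A) ∘ₗ (map R R A T) = map R R A L := by
    refine LinearMap.ext_on (span_range_derivation R A) ?_
    rintro _ ⟨a, rfl⟩
    simp [← IsScalarTower.algebraMap_apply A T L]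
  have heq : mapBaseChange R T L ∘ₗ (mapBaseChange R A T).baseChange L = mapBaseChange R A L ∘ₗ e.toLinearMap := by
    refine AlgebraTensorModule.ext fun l y => ?_
    induction y with
    | zero => simp
    | add y z hy hz => rw [TensorProduct.tmul_add, map_add, map_add, hy, hz]
    | tmul r x =>
      simp only [LinearMap.coe_comp, Function.comp_apply, LinearMap.baseChange_tmul, mapBaseChange_tmul,
        LinearEquiv.coe_coe, e, AlgebraTensorModule.cancelBaseChange_tmul]
      rw [LinearMap.map_smul, ← algebraMap_smul L r (map R R T L (map R R A T x)), smul_smul, Algebra.smul_def,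
        mul_comm]
      exact congrArg (fun z => (algebraMap T L r * l) • z) (LinearMap.congr_fun hmap x)
  have hf : (mapBaseChange R T L : _ → _) ∘ (mapBaseChange R A T).baseChange L = mapBaseChange R A L ∘ e :=
    funext fun z => LinearMap.congr_fun heq z
  rw [← Function.Bijective.of_comp_iff' hχ, hf]
  exact hψ.comp e.bijective

/-- A map between smooth algebras over a Noetherian ring which is étale over the points of codimension at most
one of the base is étale. -/
theorem etale_of_codim_one [IsNoetherianRing R] [Algebra.Smooth R A] [Algebra.Smooth R T]
    (H : ∀ (Q : Ideal T) [Q.IsPrime], (Q.under R).height ≤ 1 →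
      ∃ t ∉ Q, Algebra.FormallyEtale A (Localization.Away t)) : Algebra.Etale A T := by
  haveI : IsNoetherianRing T := Algebra.FiniteType.isNoetherianRing R T
  haveI : Module.Flat R T := Algebra.Smooth.flat R T
  have hbij : Function.Bijective (mapBaseChange R A T) := bijective_of_codim_one (R := R) (mapBaseChange R A T)
    fun Q _ hQ => by
      obtain ⟨t, ht, h⟩ := H Q hQ
      exact ⟨t, ht, baseChange_mapBaseChange_bijective t h⟩
  haveI : Algebra.FormallyEtale A T := (H06Unram.Tower.formallyEtale_iff R A T).2 hbij
  haveI : Algebra.FinitePresentation A T := Algebra.FinitePresentation.of_restrict_scalars_finitePresentation R A T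
  exact ⟨inferInstance, inferInstance⟩

end Groth.Agent.H28Purity
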