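import Groth.Agent.H28Purity.RingEtale

/-!
# Purity for morphisms between smooth schemes
-/

set_option autoImplicit false
set_option linter.style.haveILetI false
set_option backward.isDefEq.respectTransparency.types false
universe u
open CategoryTheory CategoryTheory.Limits AlgebraicGeometry

namespace Groth.Agent.H28Purity

/-- A morphism between smooth schemes over a locally Noetherian base which is étale over an open containing
all points of codimension at most one of the base is étale. -/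
theorem etale_of_codim_one_base {S X Y : Scheme.{u}} [IsLocallyNoetherian S] (p : X ⟶ S) (q : Y ⟶ S)
    [Smooth p] [Smooth q] (f : X ⟶ Y) (hf : f ≫ q = p) (S₁ : S.Opens)
    (hcodim : ∀ s : S, ringKrullDim (S.presheaf.stalk s) ≤ 1 → s ∈ S₁)
    (hét : Etale ((p ⁻¹ᵁ S₁).ι ≫ f)) : Etale f := by
  choose W hW hxW _ using fun x : X => exists_isAffineOpen_mem_and_subset (X := S) (x := p x) (U := ⊤) trivial
  choose V hV hxV hVW using fun x : X => exists_isAffineOpen_mem_and_subset (X := Y) (x := f x) (U := q ⁻¹ᵁ W x)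
    (show q (f x) ∈ W x by rw [← Scheme.Hom.comp_apply, hf]; exact hxW x)
  choose U hU hxU hUV using fun x : X => exists_isAffineOpen_mem_and_subset (X := X) (x := x) (U := f ⁻¹ᵁ V x)
    (hxV x)
  refine IsZariskiLocalAtSource.of_iSup_eq_top U (eq_top_iff.2 fun x _ => TopologicalSpace.Opens.mem_iSup.2 ⟨x, hxU x⟩)
    fun x => ?_
  haveI : IsNoetherianRing Γ(S, W x) := IsLocallyNoetherian.component_noetherian ⟨W x, hW x⟩
  have hUW : U x ≤ p ⁻¹ᵁ W x := fun z hz => by
    have := hVW x (hUV x hz)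
    show p z ∈ W x
    rw [← hf, Scheme.Hom.comp_apply]
    exact this
  letI : Algebra Γ(S, W x) Γ(Y, V x) := (q.appLE (W x) (V x) (hVW x)).hom.toAlgebra
  letI : Algebra Γ(S, W x) Γ(X, U x) := (p.appLE (W x) (U x) hUW).hom.toAlgebra
  letI : Algebra Γ(Y, V x) Γ(X, U x) := (f.appLE (V x) (U x) (hUV x)).hom.toAlgebra
  haveI : IsScalarTower Γ(S, W x) Γ(Y, V x) Γ(X, U x) := IsScalarTower.of_algebraMap_eq fun r => by
    have h := Scheme.Hom.appLE_comp_appLE f q (W x) (V x) (U x) (hVW x) (hUV x)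
    show (p.appLE (W x) (U x) hUW).hom r = (q.appLE (W x) (V x) (hVW x) ≫ f.appLE (V x) (U x) (hUV x)).hom r
    rw [h]
    simp only [hf]
  haveI : Algebra.Smooth Γ(S, W x) Γ(Y, V x) :=
    HasRingHomProperty.appLE @Smooth q inferInstance ⟨W x, hW x⟩ ⟨V x, hV x⟩ (hVW x)
  haveI : Algebra.Smooth Γ(S, W x) Γ(X, U x) :=
    HasRingHomProperty.appLE @Smooth p inferInstance ⟨W x, hW x⟩ ⟨U x, hU x⟩ hUW
  have hring : Algebra.Etale Γ(Y, V x) Γ(X, U x) := etale_of_codim_one (R := Γ(S, W x)) fun Q _ hQ => by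
    have hmap : Spec.map (p.appLE (W x) (U x) hUW) ≫ (hW x).fromSpec = (hU x).fromSpec ≫ p :=
      IsAffineOpen.SpecMap_appLE_fromSpec p (hW x) (hU x) hUW
    set z := (hU x).fromSpec (⟨Q, inferInstance⟩ : PrimeSpectrum Γ(X, U x))
    let P₀ : PrimeSpectrum Γ(S, W x) := ⟨Q.under Γ(S, W x), inferInstance⟩
    have hpz : p z = (hW x).fromSpec P₀ := by
      rw [← Scheme.Hom.comp_apply, ← hmap, Scheme.Hom.comp_apply]
      rfl
    have hs : p z ∈ S₁ := by
      rw [hpz]
      refine hcodim _ ?_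
      have hy : (hW x).fromSpec P₀ ∈ W x := by
        rw [← SetLike.mem_coe, ← (hW x).range_fromSpec]; exact ⟨P₀, rfl⟩
      letI : Algebra Γ(S, W x) (S.presheaf.stalk ((hW x).fromSpec P₀)) :=
        (S.presheaf.germ (W x) _ hy).hom.toAlgebra
      haveI : IsLocalization.AtPrime (S.presheaf.stalk ((hW x).fromSpec P₀)) P₀.asIdeal :=
        (hW x).isLocalization_stalk' P₀ hy
      rw [IsLocalization.AtPrime.ringKrullDim_eq_height P₀.asIdeal]
      exact_mod_cast hQ
    obtain ⟨_, ⟨t, rfl⟩, hzt, hts⟩ := PrimeSpectrum.isTopologicalBasis_basic_opens.exists_subset_of_mem_open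
      (show (⟨Q, inferInstance⟩ : PrimeSpectrum Γ(X, U x)) ∈
        (((hU x).fromSpec ≫ p) ⁻¹ᵁ S₁ : Set (Spec Γ(X, U x))) from hs)
      (((hU x).fromSpec ≫ p) ⁻¹ᵁ S₁).2
    refine ⟨t, hzt, ?_⟩
    let j : Spec (CommRingCat.of (Localization.Away t)) ⟶ Spec Γ(X, U x) :=
      Spec.map (CommRingCat.ofHom (algebraMap Γ(X, U x) (Localization.Away t)))
    haveI : IsOpenImmersion j := IsOpenImmersion.of_isLocalization t
    have hr : Set.range (j ≫ (hU x).fromSpec) ⊆ Set.range (p ⁻¹ᵁ S₁).ι := by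
      rintro _ ⟨w, rfl⟩
      rw [Scheme.Opens.range_ι, Scheme.Hom.comp_apply]
      exact hts ((PrimeSpectrum.localization_away_comap_range (Localization.Away t) t).le ⟨w, rfl⟩)
    haveI : Etale (Spec.map (CommRingCat.ofHom (algebraMap Γ(Y, V x) (Localization.Away t))) ≫ (hV x).fromSpec) := by
      have e : Spec.map (CommRingCat.ofHom (algebraMap Γ(Y, V x) (Localization.Away t))) ≫ (hV x).fromSpec =
          IsOpenImmersion.lift (p ⁻¹ᵁ S₁).ι (j ≫ (hU x).fromSpec) hr ≫ (p ⁻¹ᵁ S₁).ι ≫ f := by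
        rw [IsOpenImmersion.lift_fac_assoc, Category.assoc,
          ← IsAffineOpen.SpecMap_appLE_fromSpec f (hV x) (hU x) (hUV x), ← Spec.map_comp_assoc]
        congr 2
      rw [e]
      haveI := hét
      haveI : IsOpenImmersion (IsOpenImmersion.lift (p ⁻¹ᵁ S₁).ι (j ≫ (hU x).fromSpec) hr) := by
        haveI : IsOpenImmersion (IsOpenImmersion.lift (p ⁻¹ᵁ S₁).ι (j ≫ (hU x).fromSpec) hr ≫ (p ⁻¹ᵁ S₁).ι) := by
          rw [IsOpenImmersion.lift_fac]; infer_instance
        exact IsOpenImmersion.of_comp _ (p ⁻¹ᵁ S₁).ι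
      infer_instance
    have h2 : Etale (Spec.map (CommRingCat.ofHom (algebraMap Γ(Y, V x) (Localization.Away t)))) :=
      Etale.of_comp _ (hV x).fromSpec
    have h3 : (algebraMap Γ(Y, V x) (Localization.Away t)).Etale :=
      (HasRingHomProperty.Spec_iff (P := @Etale)).1 h2
    exact (RingHom.etale_algebraMap.1 h3).1
  have h4 : Etale (Spec.map (f.appLE (V x) (U x) (hUV x))) :=
    (HasRingHomProperty.Spec_iff (P := @Etale)).2 hring
  have h5 : Etale ((hU x).fromSpec ≫ f) := by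
    rw [← IsAffineOpen.SpecMap_appLE_fromSpec f (hV x) (hU x) (hUV x)]
    infer_instance
  haveI : IsAffine (U x).toScheme := hU x
  have e : (U x).ι ≫ f = (hU x).isoSpec.hom ≫ (hU x).fromSpec ≫ f := by
    rw [IsAffineOpen.isoSpec_hom, IsAffineOpen.toSpecΓ_fromSpec_assoc]
  show Etale ((U x).ι ≫ f)
  rw [e]
  infer_instance

end Groth.Agent.H28Purity
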